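import Mathlib
import Groth.Prelude.Def_AnFib

set_option linter.style.haveILetI false
set_option linter.unusedVariables false
set_option linter.unusedSectionVars false
set_option autoImplicit false
set_option backward.isDefEq.respectTransparency.types false
set_option synthInstance.maxHeartbeats 400000
set_option maxHeartbeats 1600000
universe u

/-! helper7: base change of an elementary fibration is an elementary fibration (S15501) -/
open CategoryTheory CategoryTheory.Limits AlgebraicGeometry TopologicalSpace Opposite

namespace Groth.Agent.Helper7.AnFibBC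

theorem range_snd_of_isPullback {P X Y Z : Scheme.{u}} {fst : P ⟶ X} {snd : P ⟶ Y} {f : X ⟶ Z}
    {g : Y ⟶ Z} (sq : IsPullback fst snd f g) :
    Set.range snd.base = g.base ⁻¹' (Set.range f.base) := by
  ext y
  constructor
  · rintro ⟨p, rfl⟩
    refine ⟨fst.base p, ?_⟩
    have := congrArg (fun h => h.base p) sq.w
    exact this
  · rintro ⟨x, hx⟩
    obtain ⟨p, hp1, hp2⟩ := Scheme.exists_preimage_of_isPullback sq x y hx
    exact ⟨p, hp2⟩

/-- a geometric point over a given point -/
theorem exists_geometric_point (S : Scheme.{u}) (s : S) :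
    ∃ (Ω : Type u) (_ : Field Ω) (_ : IsAlgClosed Ω) (σ : Spec (CommRingCat.of Ω) ⟶ S),
      Set.range σ.base = {s} := by
  refine ⟨AlgebraicClosure (S.residueField s), inferInstance, inferInstance,
    Spec.map (CommRingCat.ofHom (algebraMap (S.residueField s)
      (AlgebraicClosure (S.residueField s)))) ≫ S.fromSpecResidueField s, ?_⟩
  ext y
  constructor
  · rintro ⟨t, rfl⟩
    rw [Set.mem_singleton_iff]
    change (S.fromSpecResidueField s) _ = s
    exact Scheme.fromSpecResidueField_apply _ _
  · intro hy
    rw [Set.mem_singleton_iff] at hy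
    subst hy
    haveI : Nonempty (Spec (CommRingCat.of (AlgebraicClosure (S.residueField y)))) :=
      inferInstance
    obtain ⟨t⟩ := this
    refine ⟨t, ?_⟩
    change (S.fromSpecResidueField y) _ = y
    exact Scheme.fromSpecResidueField_apply _ _

theorem fibre_nonempty_of_geometric {Xb S : Scheme.{u}} (fb : Xb ⟶ S)
    (hgeom : ∀ (Ω : Type u) [Field Ω] [IsAlgClosed Ω] (σ : Spec (CommRingCat.of Ω) ⟶ S),
      IrreducibleSpace ↥(pullback fb σ) ∧ topologicalKrullDim ↥(pullback fb σ) = 1) (s : S) :
    IsIrreducible (fb.base ⁻¹' {s}) := by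
  obtain ⟨Ω, _, _, σ, hσ⟩ := exists_geometric_point S s
  haveI := (hgeom Ω σ).1
  have h1 := (IrreducibleSpace.isIrreducible_univ ↥(pullback fb σ)).image
    (pullback.fst fb σ).base (pullback.fst fb σ).continuous.continuousOn
  rw [Set.image_univ] at h1
  have h2 : Set.range (pullback.fst fb σ).base = fb.base ⁻¹' {s} := by
    have := Scheme.Pullback.range_fst fb σ
    rw [← hσ]
    exact this
  rwa [h2] at h1

theorem isElementaryFibration_pullback_snd {X S S' : Scheme.{u}} (f : X ⟶ S) (u : S' ⟶ S)
    (hf : An.IsElementaryFibration f) : An.IsElementaryFibration (pullback.snd f u) := by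
  obtain ⟨Xb, Y, j, fb, i, hjf, hj, hi, hrange, hdense, hsm, ⟨n, c, hc, hcf⟩, hgeom, hfin, het,
    hsurj⟩ := hf
  haveI := hj
  haveI := hi
  have sqb : IsPullback (pullback.fst fb u) (pullback.snd fb u) fb u :=
    IsPullback.of_hasPullback fb u
  -- the open part
  let j' : pullback f u ⟶ pullback fb u :=
    pullback.lift (pullback.fst f u ≫ j) (pullback.snd f u)
      (by rw [Category.assoc, hjf, pullback.condition])
  have hj'1 : j' ≫ pullback.fst fb u = pullback.fst f u ≫ j := pullback.lift_fst _ _ _
  have hj'2 : j' ≫ pullback.snd fb u = pullback.snd f u := pullback.lift_snd _ _ _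
  have sqj : IsPullback (pullback.fst f u) j' j (pullback.fst fb u) := by
    apply IsPullback.of_bot _ hj'1.symm sqb
    rw [hj'2, hjf]
    exact IsPullback.of_hasPullback f u
  have hj'o : IsOpenImmersion j' := MorphismProperty.of_isPullback (P := @IsOpenImmersion) sqj hj
  -- the closed part
  have sqi : IsPullback (pullback.fst i (pullback.fst fb u)) (pullback.snd i (pullback.fst fb u))
      i (pullback.fst fb u) := IsPullback.of_hasPullback i (pullback.fst fb u)
  have sqY : IsPullback (pullback.fst i (pullback.fst fb u))
      (pullback.snd i (pullback.fst fb u) ≫ pullback.snd fb u) (i ≫ fb) u := sqi.paste_vert sqb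
  have hrj : Set.range j'.base = (pullback.fst fb u).base ⁻¹' (Set.range j.base) :=
    range_snd_of_isPullback sqj
  have hri : Set.range (pullback.snd i (pullback.fst fb u)).base =
      (pullback.fst fb u).base ⁻¹' (Set.range i.base) := range_snd_of_isPullback sqi
  -- geometric fibres
  have hgeom' : ∀ (Ω : Type u) [Field Ω] [IsAlgClosed Ω] (σ : Spec (CommRingCat.of Ω) ⟶ S'),
      IrreducibleSpace ↥(pullback (pullback.snd fb u) σ) ∧
        topologicalKrullDim ↥(pullback (pullback.snd fb u) σ) = 1 := by
    intro Ω _ _ σ
    let e := pullbackLeftPullbackSndIso fb u σ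
    let h := Scheme.homeoOfIso e
    obtain ⟨hirr, hdim⟩ := hgeom Ω (σ ≫ u)
    constructor
    · rw [irreducibleSpace_def]
      have := (IrreducibleSpace.isIrreducible_univ ↥(pullback fb (σ ≫ u))).image h.symm
        h.symm.continuous.continuousOn
      rwa [Set.image_univ, h.symm.surjective.range_eq] at this
    · rw [← hdim]
      exact IsHomeomorph.topologicalKrullDim_eq h h.isHomeomorph
  refine ⟨pullback fb u, pullback i (pullback.fst fb u), j', pullback.snd fb u,
    pullback.snd i (pullback.fst fb u), hj'2, hj'o, inferInstance, ?_, ?_, ?_, ?_, hgeom', ?_, ?_,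
    ?_⟩
  · -- complement
    rw [hrj, hri, hrange]
    rfl
  · -- fibrewise density
    intro s'
    have hirr := fibre_nonempty_of_geometric (pullback.snd fb u) hgeom' s'
    have hirr0 := fibre_nonempty_of_geometric fb hgeom (u s')
    obtain ⟨x₀, hx₀⟩ := hirr0.1
    have hne0 : (Set.range j.base ∩ fb.base ⁻¹' {u s'}).Nonempty := by
      by_contra hcon
      rw [Set.not_nonempty_iff_eq_empty] at hcon
      have := hdense (u s') hx₀
      rw [hcon, closure_empty] at this
      exact this
    obtain ⟨x₁, hx₁j, hx₁s⟩ := hne0
    have hx₁s' : fb.base x₁ = u.base s' := hx₁s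
    obtain ⟨z, hz1, hz2⟩ := Scheme.Pullback.exists_preimage_pullback x₁ s' hx₁s'
    have hne : ((pullback.snd fb u).base ⁻¹' {s'} ∩ Set.range j'.base).Nonempty := by
      refine ⟨z, hz2, ?_⟩
      rw [hrj]
      change (pullback.fst fb u).base z ∈ Set.range j.base
      rw [hz1]
      exact hx₁j
    have := subset_closure_inter_of_isPreirreducible_of_isOpen hirr.2
      hj'o.base_open.isOpen_range hne
    rwa [Set.inter_comm] at this
  · -- smooth
    exact MorphismProperty.pullback_snd (P := @Smooth) _ _ hsm
  · -- strongly projective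
    have hterm : u ≫ specULiftZIsTerminal.from S = specULiftZIsTerminal.from S' :=
      specULiftZIsTerminal.hom_ext _ _
    let t := CohB1.ProjSpace.toSpec n (ULift.{u} ℤ)
    let v : pullback t (specULiftZIsTerminal.from S') ⟶ pullback t (specULiftZIsTerminal.from S) :=
      pullback.lift (pullback.fst t (specULiftZIsTerminal.from S'))
        (pullback.snd t (specULiftZIsTerminal.from S') ≫ u)
        (by rw [Category.assoc, hterm]; exact pullback.condition)
    have hv1 : v ≫ pullback.fst t (specULiftZIsTerminal.from S) =
        pullback.fst t (specULiftZIsTerminal.from S') := pullback.lift_fst _ _ _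
    have hv2 : v ≫ pullback.snd t (specULiftZIsTerminal.from S) =
        pullback.snd t (specULiftZIsTerminal.from S') ≫ u := pullback.lift_snd _ _ _
    have sqP : IsPullback v (pullback.snd t (specULiftZIsTerminal.from S'))
        (pullback.snd t (specULiftZIsTerminal.from S)) u := by
      apply IsPullback.of_right _ hv2 (IsPullback.of_hasPullback t (specULiftZIsTerminal.from S))
      rw [hv1, hterm]
      exact IsPullback.of_hasPullback t (specULiftZIsTerminal.from S')
    have hw : (pullback.fst fb u ≫ c) ≫ pullback.snd t (specULiftZIsTerminal.from S) =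
        pullback.snd fb u ≫ u := by
      rw [Category.assoc]
      have : c ≫ pullback.snd t (specULiftZIsTerminal.from S) = fb := hcf
      rw [this, pullback.condition]
    let c' : pullback fb u ⟶ pullback t (specULiftZIsTerminal.from S') :=
      sqP.lift (pullback.fst fb u ≫ c) (pullback.snd fb u) hw
    have hc'1 : c' ≫ v = pullback.fst fb u ≫ c := sqP.lift_fst _ _ _
    have hc'2 : c' ≫ pullback.snd t (specULiftZIsTerminal.from S') = pullback.snd fb u :=
      sqP.lift_snd _ _ _
    have sqc : IsPullback (pullback.fst fb u) c' c v := by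
      apply IsPullback.of_bot _ hc'1.symm sqP
      rw [hc'2]
      have : c ≫ pullback.snd t (specULiftZIsTerminal.from S) = fb := hcf
      rw [this]
      exact sqb
    refine ⟨n, c', MorphismProperty.of_isPullback (P := @IsClosedImmersion) sqc hc, hc'2⟩
  · exact MorphismProperty.of_isPullback (P := @IsFinite) sqY hfin
  · exact MorphismProperty.of_isPullback (P := @Etale) sqY het
  · haveI : Surjective (i ≫ fb) := ⟨hsurj⟩
    have : Surjective (pullback.snd i (pullback.fst fb u) ≫ pullback.snd fb u) :=
      MorphismProperty.of_isPullback (P := @Surjective) sqY inferInstance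
    exact this.surj

end Groth.Agent.Helper7.AnFibBC
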